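import Cfsg.Agent.H83.Co.Mat
import Cfsg.Agent.LieClassical.SympCount

/-!
S5227, D1 and D2: `Sp₆(3)` and `GSp₆(3)`.
-/

set_option autoImplicit false
set_option linter.style.longLine false

namespace Cfsg.Agent.H83.Co

open Matrix Cfsg.Agent.H776.Co Cfsg.Agent.H776.Co.P

/-- a subgroup isomorphic to `P` is a Sylow subgroup by order -/
theorem exists_sylow {G : Type*} [Group G] [Finite G] (φ : P →* G) (hφ : Function.Injective φ) {m : ℕ}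
    (hc : Nat.card G = 3 ^ 9 * m) (hm : ¬ 3 ∣ m) : ∃ T : Sylow 3 G, (T : Subgroup G) = φ.range := by
  have : Fact (Nat.Prime 3) := ⟨Nat.prime_three⟩
  have h1 : Nat.card φ.range = 3 ^ 9 := by
    rw [← Nat.card_congr (MonoidHom.ofInjective hφ).toEquiv, card_P]
  have h2 : IsPGroup 3 φ.range := IsPGroup.of_card h1
  obtain ⟨T, hT⟩ := h2.exists_le_sylow
  refine ⟨T, ?_⟩
  obtain ⟨n, hn⟩ := IsPGroup.iff_card.1 T.isPGroup'
  have h3 : 3 ^ n ∣ 3 ^ 9 * m := by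
    rw [← hn, ← hc]
    exact Subgroup.card_subgroup_dvd_card _
  have h4 : 3 ^ n ∣ 3 ^ 9 := by
    refine (Nat.Coprime.dvd_of_dvd_mul_right ?_ h3)
    exact Nat.Coprime.pow_left _ ((Nat.Prime.coprime_iff_not_dvd Nat.prime_three).2 hm)
  have h5 : Nat.card T ≤ Nat.card φ.range := by
    rw [hn, h1]
    exact Nat.le_of_dvd (by norm_num) h4
  exact (Subgroup.eq_of_le_of_card_ge hT h5).symm

/-- `P` in `Sp₆(3)` -/
def phi : P →* symplecticGroup (Fin 3) (ZMod 3) :=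
  MonoidHom.mk' (fun x => ⟨mat x, mat_mem x⟩) fun x y => Subtype.ext (mat_mul x y)

theorem phi_coe (x : P) : (phi x : Matrix (Fin 3 ⊕ Fin 3) (Fin 3 ⊕ Fin 3) (ZMod 3)) = mat x := rfl

theorem phi_injective : Function.Injective phi := fun _ _ h => mat_injective (congrArg Subtype.val h)

theorem card_Sp6 : Nat.card (symplecticGroup (Fin 3) (ZMod 3)) = 3 ^ 9 * (8 * 80 * 728) := by
  have : Fact (Nat.Prime 3) := ⟨Nat.prime_three⟩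
  rw [LieClassical.SympCount.card_symplecticGroup 3, ZMod.card]
  simp [Finset.prod_range_succ]

theorem conj_of {g : symplecticGroup (Fin 3) (ZMod 3)} {x y : P} (h : mat y * g = g * mat x) :
    phi y = g * phi x * g⁻¹ := by
  rw [eq_mul_inv_iff_mul_eq]
  exact Subtype.ext h

theorem single_entry (G : Matrix (Fin 3 ⊕ Fin 3) (Fin 3 ⊕ Fin 3) (ZMod 3)) (i : Fin 3 ⊕ Fin 3) :
    (G * (Matrix.single i i 1 : Matrix (Fin 3 ⊕ Fin 3) (Fin 3 ⊕ Fin 3) (ZMod 3)) * Gᵀ) i i = G i i * G i i := by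
  rw [Matrix.mul_apply, Finset.sum_eq_single i]
  · simp
  · intro j _ hj
    rw [Matrix.mul_single_apply_of_ne _ _ _ _ _ hj, zero_mul]
  · intro h
    exact absurd (Finset.mem_univ _) h

/-- the quadratic form of a transvection -/
theorem not_neg {G : Matrix (Fin 3 ⊕ Fin 3) (Fin 3 ⊕ Fin 3) (ZMod 3)} (hG : G ∈ symplecticGroup (Fin 3) (ZMod 3))
    {y : P} (h : mat y * G = G * mat ⟨0, 0, 0, 0, 0, 0, 0, 0, 1⟩) (hy : y.m33 = -1) : False := by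
  rw [SymplecticGroup.mem_iff] at hG
  have h1 : (mat y - 1) * J (Fin 3) (ZMod 3) = G * ((mat ⟨0, 0, 0, 0, 0, 0, 0, 0, 1⟩ - 1) * J (Fin 3) (ZMod 3)) * Gᵀ := by
    calc (mat y - 1) * J (Fin 3) (ZMod 3) = (mat y - 1) * (G * J (Fin 3) (ZMod 3) * Gᵀ) := by rw [hG]
      _ = (mat y * G - G) * (J (Fin 3) (ZMod 3) * Gᵀ) := by
        rw [Matrix.mul_assoc G, ← Matrix.mul_assoc, Matrix.sub_mul, Matrix.one_mul]
      _ = G * ((mat ⟨0, 0, 0, 0, 0, 0, 0, 0, 1⟩ - 1) * J (Fin 3) (ZMod 3)) * Gᵀ := by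
        rw [h, Matrix.mul_assoc G (_ * _), Matrix.mul_assoc _ (J (Fin 3) (ZMod 3)), ← Matrix.mul_assoc G,
          Matrix.mul_sub, Matrix.mul_one]
  have h2 : (mat ⟨0, 0, 0, 0, 0, 0, 0, 0, 1⟩ - 1) * J (Fin 3) (ZMod 3) = Matrix.single (Sum.inl 2) (Sum.inl 2) 1 := by
    decide +kernel
  rw [h2] at h1
  have h3 := congrFun (congrFun h1 (Sum.inl 2)) (Sum.inl 2)
  have h4 : ((mat y - 1) * J (Fin 3) (ZMod 3)) (Sum.inl 2) (Sum.inl 2) = y.m33 := by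
    rw [← mat_entry y]
    simp [Matrix.mul_apply, Fin.sum_univ_three, J]
  rw [h4, single_entry, hy] at h3
  generalize G (Sum.inl 2) (Sum.inl 2) = v at h3
  revert v
  decide

/-! ### the group of similitudes -/

/-- `GSp₆(3)` -/
def GS : Subgroup (Matrix (Fin 3 ⊕ Fin 3) (Fin 3 ⊕ Fin 3) (ZMod 3))ˣ where
  carrier := {g | (g : Matrix _ _ (ZMod 3)) * J (Fin 3) (ZMod 3) * (g : Matrix _ _ (ZMod 3))ᵀ = J (Fin 3) (ZMod 3) ∨
    (g : Matrix _ _ (ZMod 3)) * J (Fin 3) (ZMod 3) * (g : Matrix _ _ (ZMod 3))ᵀ = -J (Fin 3) (ZMod 3)}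
  mul_mem' := by
    rintro g h hg hh
    have e : ((g * h : (Matrix (Fin 3 ⊕ Fin 3) (Fin 3 ⊕ Fin 3) (ZMod 3))ˣ) : Matrix _ _ (ZMod 3)) * J (Fin 3) (ZMod 3) *
        ((g * h : (Matrix (Fin 3 ⊕ Fin 3) (Fin 3 ⊕ Fin 3) (ZMod 3))ˣ) : Matrix _ _ (ZMod 3))ᵀ =
        (g : Matrix _ _ (ZMod 3)) * ((h : Matrix _ _ (ZMod 3)) * J (Fin 3) (ZMod 3) * (h : Matrix _ _ (ZMod 3))ᵀ) *
          (g : Matrix _ _ (ZMod 3))ᵀ := by
      rw [Units.val_mul, transpose_mul]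
      simp only [Matrix.mul_assoc]
    simp only [Set.mem_ofPred_eq] at hg hh ⊢
    rw [e]
    rcases hg with hg | hg <;> rcases hh with hh | hh <;> rw [hh] <;>
      simp only [Matrix.mul_neg, Matrix.neg_mul, hg, neg_neg, true_or, or_true]
  one_mem' := by
    left
    simp
  inv_mem' := by
    rintro g hg
    have e : ((g⁻¹ : (Matrix (Fin 3 ⊕ Fin 3) (Fin 3 ⊕ Fin 3) (ZMod 3))ˣ) : Matrix _ _ (ZMod 3)) *
        ((g : Matrix _ _ (ZMod 3)) * J (Fin 3) (ZMod 3) * (g : Matrix _ _ (ZMod 3))ᵀ) *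
        ((g⁻¹ : (Matrix (Fin 3 ⊕ Fin 3) (Fin 3 ⊕ Fin 3) (ZMod 3))ˣ) : Matrix _ _ (ZMod 3))ᵀ = J (Fin 3) (ZMod 3) := by
      rw [Matrix.mul_assoc, Matrix.mul_assoc _ _ᵀ, ← transpose_mul, Units.inv_mul, transpose_one, Matrix.mul_one,
        ← Matrix.mul_assoc, Units.inv_mul, Matrix.one_mul]
    simp only [Set.mem_ofPred_eq] at hg ⊢
    rcases hg with hg | hg
    · left
      rwa [hg] at e
    · right
      rw [hg, Matrix.mul_neg, Matrix.neg_mul] at e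
      exact neg_eq_iff_eq_neg.1 e

theorem mem_GS {g : (Matrix (Fin 3 ⊕ Fin 3) (Fin 3 ⊕ Fin 3) (ZMod 3))ˣ} : g ∈ GS ↔
    (g : Matrix _ _ (ZMod 3)) * J (Fin 3) (ZMod 3) * (g : Matrix _ _ (ZMod 3))ᵀ = J (Fin 3) (ZMod 3) ∨
    (g : Matrix _ _ (ZMod 3)) * J (Fin 3) (ZMod 3) * (g : Matrix _ _ (ZMod 3))ᵀ = -J (Fin 3) (ZMod 3) := Iff.rfl

/-- `Sp₆(3) → GSp₆(3)` -/
def jj : symplecticGroup (Fin 3) (ZMod 3) →* GS :=
  (MonoidHom.toHomUnits (symplecticGroup (Fin 3) (ZMod 3)).subtype).codRestrict GS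
    fun g => mem_GS.2 (Or.inl (SymplecticGroup.mem_iff.1 g.2))

theorem jj_coe (g : symplecticGroup (Fin 3) (ZMod 3)) :
    (((jj g : GS) : (Matrix (Fin 3 ⊕ Fin 3) (Fin 3 ⊕ Fin 3) (ZMod 3))ˣ) : Matrix (Fin 3 ⊕ Fin 3) (Fin 3 ⊕ Fin 3) (ZMod 3)) =
      (g : Matrix (Fin 3 ⊕ Fin 3) (Fin 3 ⊕ Fin 3) (ZMod 3)) := rfl

theorem jj_injective : Function.Injective jj := by
  intro g h e
  apply Subtype.ext
  rw [← jj_coe, ← jj_coe, e]

theorem mem_range_jj {g : GS} : g ∈ jj.range ↔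
    ((g : (Matrix (Fin 3 ⊕ Fin 3) (Fin 3 ⊕ Fin 3) (ZMod 3))ˣ) : Matrix _ _ (ZMod 3)) * J (Fin 3) (ZMod 3) *
      ((g : (Matrix (Fin 3 ⊕ Fin 3) (Fin 3 ⊕ Fin 3) (ZMod 3))ˣ) : Matrix _ _ (ZMod 3))ᵀ = J (Fin 3) (ZMod 3) := by
  constructor
  · rintro ⟨h, rfl⟩
    exact SymplecticGroup.mem_iff.1 h.2
  · intro h
    exact ⟨⟨_, SymplecticGroup.mem_iff.2 h⟩, Subtype.ext (Units.ext rfl)⟩

theorem J_ne : J (Fin 3) (ZMod 3) ≠ -J (Fin 3) (ZMod 3) := by decide +kernel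

theorem sb_J : sb * J (Fin 3) (ZMod 3) * sbᵀ = -J (Fin 3) (ZMod 3) := by decide +kernel

theorem sb_sb : sb * sb = 1 := by decide +kernel

/-- the similitude `sb` -/
def sbG : GS := ⟨⟨sb, sb, sb_sb, sb_sb⟩, mem_GS.2 (Or.inr sb_J)⟩

theorem sbG_coe : ((sbG : (Matrix (Fin 3 ⊕ Fin 3) (Fin 3 ⊕ Fin 3) (ZMod 3))ˣ) : Matrix _ _ (ZMod 3)) = sb := rfl

theorem index_range_jj : jj.range.index = 2 := by
  rw [Subgroup.index_eq_two_iff]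
  refine ⟨sbG, fun g => ?_⟩
  have e : (((g * sbG : GS) : (Matrix (Fin 3 ⊕ Fin 3) (Fin 3 ⊕ Fin 3) (ZMod 3))ˣ) : Matrix _ _ (ZMod 3)) *
      J (Fin 3) (ZMod 3) *
      (((g * sbG : GS) : (Matrix (Fin 3 ⊕ Fin 3) (Fin 3 ⊕ Fin 3) (ZMod 3))ˣ) : Matrix _ _ (ZMod 3))ᵀ =
      -(((g : (Matrix (Fin 3 ⊕ Fin 3) (Fin 3 ⊕ Fin 3) (ZMod 3))ˣ) : Matrix _ _ (ZMod 3)) * J (Fin 3) (ZMod 3) *
      ((g : (Matrix (Fin 3 ⊕ Fin 3) (Fin 3 ⊕ Fin 3) (ZMod 3))ˣ) : Matrix _ _ (ZMod 3))ᵀ) := by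
    rw [Subgroup.coe_mul, Units.val_mul, sbG_coe, transpose_mul, Matrix.mul_assoc, ← Matrix.mul_assoc (J _ _),
      Matrix.mul_assoc _ sb, ← Matrix.mul_assoc sb, ← Matrix.mul_assoc sb, sb_J, Matrix.neg_mul, Matrix.mul_neg,
      Matrix.mul_assoc]
  rw [mem_range_jj, mem_range_jj, e]
  rcases mem_GS.1 g.2 with h | h
  · rw [h]
    exact Or.inr ⟨rfl, fun h' => J_ne h'.symm⟩
  · rw [h, neg_neg]
    exact Or.inl ⟨rfl, fun h' => J_ne h'.symm⟩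

theorem card_GS : Nat.card GS = 3 ^ 9 * (8 * 80 * 728 * 2) := by
  rw [← Subgroup.card_mul_index jj.range, index_range_jj,
    ← Nat.card_congr (MonoidHom.ofInjective jj_injective).toEquiv, card_Sp6, Nat.mul_assoc]

/-- **D1** -/
theorem real_sp : ∃ (G0 : Type) (_ : Group G0) (_ : Finite G0), RealData 0 False G0 := by
  refine ⟨symplecticGroup (Fin 3) (ZMod 3), inferInstance, inferInstance, ⟨phi, phi_injective,
    exists_sylow phi phi_injective card_Sp6 (by norm_num), ⟨⟨s1, s1_mem⟩, fun x => conj_of (conj_s1 x)⟩,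
    ⟨⟨s3, s3_mem⟩, fun x => conj_of (conj_s3 x)⟩, ⟨⟨g1, g1_mem⟩, fun x hx => conj_of (conj_g1 hx)⟩,
    ⟨⟨g2, g2_mem⟩, fun x hx => conj_of (conj_g2 hx)⟩, ⟨⟨g3, g3_mem⟩, fun x hx => conj_of (conj_g3 hx)⟩,
    fun h => h.elim, ?_⟩⟩
  rintro - f ⟨g, hg⟩ hf
  refine not_neg g.2 (y := f ⟨0, 0, 0, 0, 0, 0, 0, 0, 1⟩) ?_ (hf _)
  have := hg ⟨0, 0, 0, 0, 0, 0, 0, 0, 1⟩
  rw [eq_mul_inv_iff_mul_eq] at this
  exact congrArg Subtype.val this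

theorem conj_of' {g : symplecticGroup (Fin 3) (ZMod 3)} {x y : P} (h : mat y * g = g * mat x) :
    (jj.comp phi) y = jj g * (jj.comp phi) x * (jj g)⁻¹ := by
  show jj (phi y) = _ * jj (phi x) * _
  rw [conj_of h, map_mul, map_mul, map_inv]

/-- **D2** -/
theorem real_gsp : ∃ (G0 : Type) (_ : Group G0) (_ : Finite G0), RealData 0 True G0 := by
  have hi : Function.Injective (jj.comp phi) := jj_injective.comp phi_injective
  refine ⟨GS, inferInstance, inferInstance, ⟨jj.comp phi, hi,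
    exists_sylow (jj.comp phi) hi card_GS (by norm_num), ⟨jj ⟨s1, s1_mem⟩, fun x => conj_of' (conj_s1 x)⟩,
    ⟨jj ⟨s3, s3_mem⟩, fun x => conj_of' (conj_s3 x)⟩, ⟨jj ⟨g1, g1_mem⟩, fun x hx => conj_of' (conj_g1 hx)⟩,
    ⟨jj ⟨g2, g2_mem⟩, fun x hx => conj_of' (conj_g2 hx)⟩, ⟨jj ⟨g3, g3_mem⟩, fun x hx => conj_of' (conj_g3 hx)⟩,
    fun _ => ⟨sbG, fun x => ?_⟩, fun h => (h trivial).elim⟩⟩
  rw [eq_mul_inv_iff_mul_eq]
  exact Subtype.ext (Units.ext (conj_sb x))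

end Cfsg.Agent.H83.Co
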