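import Cfsg.Agent.H83.Co.RealDef
import Mathlib.LinearAlgebra.SymplecticGroup

/-!
S5227, D1/D2: the model group `P` as a group of symplectic `6 × 6` matrices over `F₃`.
-/

set_option autoImplicit false
set_option linter.style.longLine false

namespace Cfsg.Agent.H83.Co

open Matrix Cfsg.Agent.H776.Co Cfsg.Agent.H776.Co.P

/-- `t` -/
def tu (x : P) : Matrix (Fin 3) (Fin 3) (ZMod 3) := !![1, x.a, x.c; 0, 1, x.b; 0, 0, 1]
/-- the inverse transpose of `t` -/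
def tlo (x : P) : Matrix (Fin 3) (Fin 3) (ZMod 3) := !![1, 0, 0; -x.a, 1, 0; x.a * x.b - x.c, -x.b, 1]
/-- `M` -/
def sy (x : P) : Matrix (Fin 3) (Fin 3) (ZMod 3) :=
  !![x.m11, x.m12, x.m13; x.m12, x.m22, x.m23; x.m13, x.m23, x.m33]
/-- the matrix of `x` -/
def mat (x : P) : Matrix (Fin 3 ⊕ Fin 3) (Fin 3 ⊕ Fin 3) (ZMod 3) :=
  fromBlocks (tu x) (sy x * tlo x) 0 (tlo x)

theorem tu_mul (x y : P) : tu (x * y) = tu x * tu y := by
  ext i j
  fin_cases i <;> fin_cases j <;> simp [tu, Matrix.mul_apply, Fin.sum_univ_three] <;> ring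

theorem tlo_mul (x y : P) : tlo (x * y) = tlo x * tlo y := by
  ext i j
  fin_cases i <;> fin_cases j <;> simp [tlo, Matrix.mul_apply, Fin.sum_univ_three] <;> ring

theorem tlo_tu (x : P) : tlo x * (tu x)ᵀ = 1 := by
  ext i j
  fin_cases i <;> fin_cases j <;> simp [tlo, tu, Matrix.mul_apply, Fin.sum_univ_three]
  ring

theorem tut_tlo (x : P) : (tu x)ᵀ * tlo x = 1 := mul_eq_one_comm.1 (tlo_tu x)

theorem tu_transpose (x : P) : (tu x)ᵀ = !![1, 0, 0; x.a, 1, 0; x.c, x.b, 1] := by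
  ext i j
  fin_cases i <;> fin_cases j <;> rfl

theorem sy_mul (x y : P) : sy (x * y) = sy x + tu x * sy y * (tu x)ᵀ := by
  rw [tu_transpose]
  ext i j
  fin_cases i <;> fin_cases j <;> simp [sy, tu] <;> ring

theorem sy_transpose (x : P) : (sy x)ᵀ = sy x := by
  ext i j
  fin_cases i <;> fin_cases j <;> rfl

theorem mat_mul (x y : P) : mat (x * y) = mat x * mat y := by
  rw [mat, mat, mat, fromBlocks_multiply, tu_mul, tlo_mul, sy_mul]
  congr 1
  · simp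
  · rw [add_mul, Matrix.mul_assoc (tu x * sy y) _ _, ← Matrix.mul_assoc (tu x)ᵀ, tut_tlo, Matrix.one_mul,
      Matrix.mul_assoc (tu x), add_comm, Matrix.mul_assoc (sy x)]
  · simp
  · simp

theorem mat_one : mat 1 = 1 := by
  ext i j
  rcases i with i | i <;> rcases j with j | j <;> fin_cases i <;> fin_cases j <;>
    simp [mat, tu, tlo, sy]

theorem mat_mem (x : P) : mat x ∈ symplecticGroup (Fin 3) (ZMod 3) := by
  rw [SymplecticGroup.mem_iff, mat, Matrix.J, fromBlocks_multiply, fromBlocks_transpose, fromBlocks_multiply]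
  have h1 : sy x * tlo x * (tu x)ᵀ = sy x := by rw [Matrix.mul_assoc, tlo_tu, Matrix.mul_one]
  have h2 : tu x * (sy x * tlo x)ᵀ = sy x := by
    have h : (sy x * tlo x * (tu x)ᵀ)ᵀ = (sy x)ᵀ := by rw [h1]
    rwa [sy_transpose, transpose_mul, transpose_transpose] at h
  have h3 : tu x * (tlo x)ᵀ = 1 := by
    have h : (tlo x * (tu x)ᵀ)ᵀ = (1 : Matrix (Fin 3) (Fin 3) (ZMod 3))ᵀ := by rw [tlo_tu]
    rwa [transpose_mul, transpose_transpose, transpose_one] at h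
  have h4 : tu x * ((tlo x)ᵀ * (sy x)ᵀ) = sy x := by rwa [transpose_mul] at h2
  congr 1
  · simp [h1, h4]
  · simp [h3]
  · simp [tlo_tu]
  · simp

theorem mat_injective : Function.Injective mat := by
  intro x y h
  have hb := fromBlocks_inj.1 h
  obtain ⟨h1, h2, _, h4⟩ := hb
  have h5 : sy x = sy y := by
    have h6 : sy x * tlo x * (tu x)ᵀ = sy y * tlo y * (tu y)ᵀ := by rw [h1, h2]
    rwa [Matrix.mul_assoc, tlo_tu, Matrix.mul_assoc, tlo_tu, Matrix.mul_one, Matrix.mul_one] at h6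
  ext
  · exact congrFun (congrFun h1 0) 1
  · exact congrFun (congrFun h1 1) 2
  · exact congrFun (congrFun h1 0) 2
  · exact congrFun (congrFun h5 0) 0
  · exact congrFun (congrFun h5 0) 1
  · exact congrFun (congrFun h5 1) 1
  · exact congrFun (congrFun h5 0) 2
  · exact congrFun (congrFun h5 1) 2
  · exact congrFun (congrFun h5 2) 2

/-! ### the conjugating elements -/

/-- rotation of `e1, e2` -/
def g1 : Matrix (Fin 3 ⊕ Fin 3) (Fin 3 ⊕ Fin 3) (ZMod 3) :=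
  fromBlocks !![0, -1, 0; 1, 0, 0; 0, 0, 1] 0 0 !![0, -1, 0; 1, 0, 0; 0, 0, 1]
/-- rotation of `e2, e3` -/
def g2 : Matrix (Fin 3 ⊕ Fin 3) (Fin 3 ⊕ Fin 3) (ZMod 3) :=
  fromBlocks !![1, 0, 0; 0, 0, -1; 0, 1, 0] 0 0 !![1, 0, 0; 0, 0, -1; 0, 1, 0]
/-- rotation of `e3, f3` -/
def g3 : Matrix (Fin 3 ⊕ Fin 3) (Fin 3 ⊕ Fin 3) (ZMod 3) :=
  fromBlocks !![1, 0, 0; 0, 1, 0; 0, 0, 0] !![0, 0, 0; 0, 0, 0; 0, 0, 1]
    !![0, 0, 0; 0, 0, 0; 0, 0, -1] !![1, 0, 0; 0, 1, 0; 0, 0, 0]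
/-- sign at `e1, f1` -/
def s1 : Matrix (Fin 3 ⊕ Fin 3) (Fin 3 ⊕ Fin 3) (ZMod 3) :=
  fromBlocks !![-1, 0, 0; 0, 1, 0; 0, 0, 1] 0 0 !![-1, 0, 0; 0, 1, 0; 0, 0, 1]
/-- sign at `e3, f3` -/
def s3 : Matrix (Fin 3 ⊕ Fin 3) (Fin 3 ⊕ Fin 3) (ZMod 3) :=
  fromBlocks !![1, 0, 0; 0, 1, 0; 0, 0, -1] 0 0 !![1, 0, 0; 0, 1, 0; 0, 0, -1]
/-- sign at the `f i` -/
def sb : Matrix (Fin 3 ⊕ Fin 3) (Fin 3 ⊕ Fin 3) (ZMod 3) := fromBlocks 1 0 0 (-1)

theorem g1_mem : g1 ∈ symplecticGroup (Fin 3) (ZMod 3) := by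
  rw [SymplecticGroup.mem_iff]; decide +kernel
theorem g2_mem : g2 ∈ symplecticGroup (Fin 3) (ZMod 3) := by
  rw [SymplecticGroup.mem_iff]; decide +kernel
theorem g3_mem : g3 ∈ symplecticGroup (Fin 3) (ZMod 3) := by
  rw [SymplecticGroup.mem_iff]; decide +kernel
theorem s1_mem : s1 ∈ symplecticGroup (Fin 3) (ZMod 3) := by
  rw [SymplecticGroup.mem_iff]; decide +kernel
theorem s3_mem : s3 ∈ symplecticGroup (Fin 3) (ZMod 3) := by
  rw [SymplecticGroup.mem_iff]; decide +kernel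

theorem conj_s1 (x : P) : mat (tor (-1) 1 1 x) * s1 = s1 * mat x := by
  rw [mat, mat, s1, fromBlocks_multiply, fromBlocks_multiply]
  congr 1 <;> (ext i j; fin_cases i <;> fin_cases j <;>
    simp [tor, tu, tlo, sy] <;> ring)

theorem conj_s3 (x : P) : mat (tor 1 (-1) 1 x) * s3 = s3 * mat x := by
  rw [mat, mat, s3, fromBlocks_multiply, fromBlocks_multiply]
  congr 1 <;> (ext i j; fin_cases i <;> fin_cases j <;>
    simp [tor, tu, tlo, sy] <;> ring)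

theorem conj_sb (x : P) : mat (tor 1 1 (-1) x) * sb = sb * mat x := by
  rw [mat, mat, sb, fromBlocks_multiply, fromBlocks_multiply]
  congr 1 <;> (ext i j; fin_cases i <;> fin_cases j <;>
    simp [tor, tu, tlo, sy] <;> ring)

theorem conj_g1 {x : P} (hx : x ∈ R1) : mat (w1 x) * g1 = g1 * mat x := by
  have h : x.a = 0 := hx
  rw [mat, mat, g1, fromBlocks_multiply, fromBlocks_multiply]
  congr 1 <;> (ext i j; fin_cases i <;> fin_cases j <;>
    simp [w1, tu, tlo, sy, h] <;> ring)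

theorem conj_g2 {x : P} (hx : x ∈ R2) : mat (w2 0 x) * g2 = g2 * mat x := by
  have h : x.b = 0 := hx
  rw [mat, mat, g2, fromBlocks_multiply, fromBlocks_multiply]
  congr 1 <;> (ext i j; fin_cases i <;> fin_cases j <;>
    simp [w2, tu, tlo, sy, h] <;> ring)

theorem conj_g3_xa (a : ZMod 3) : mat (xa a) * g3 = g3 * mat (xa a) := by
  rw [mat, g3, fromBlocks_multiply, fromBlocks_multiply]
  congr 1 <;> (ext i j; fin_cases i <;> fin_cases j <;> simp [xa, tu, tlo, sy])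

theorem conj_g3_Q {x : P} (ha : x.a = 0) (hm : x.m33 = 0) : mat (w3Q x) * g3 = g3 * mat x := by
  rw [mat, mat, g3, fromBlocks_multiply, fromBlocks_multiply]
  congr 1 <;> (ext i j; fin_cases i <;> fin_cases j <;>
    simp [w3Q, tu, tlo, sy, ha, hm] <;> ring_nf <;> reduce_mod_char <;> ring)

theorem conj_g3 {x : P} (hx : x ∈ R3) : mat (w3 x) * g3 = g3 * mat x := by
  have h : x.m33 = 0 := hx
  have h1 : mat (w3Q ((xa x.a)⁻¹ * x)) * g3 = g3 * mat ((xa x.a)⁻¹ * x) :=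
    conj_g3_Q (by simp [xa]) (by simp [xa, h])
  rw [w3, mat_mul, Matrix.mul_assoc, h1, ← Matrix.mul_assoc, conj_g3_xa, Matrix.mul_assoc, ← mat_mul,
    mul_inv_cancel_left]

/-! ### the quadratic form of a transvection -/

/-- the entry `(f3, f3)` of `J (mat x - 1)` -/
theorem mat_entry (x : P) : mat x (Sum.inl 2) (Sum.inr 2) = x.m33 := by
  simp [mat, sy, tlo]

end Cfsg.Agent.H83.Co
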